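import Cfsg.Agent.Omega.NO3S.TwoOne.Sig.PlB
import Cfsg.Agent.Omega.NO3S.TwoOne.SymRelD
import Cfsg.Agent.Omega.NO3S.TwoOne.Mixed
import Cfsg.Agent.Involutions.BaerSuzuki

/-!
# NO-3S, `q = 2`, `n = 1`, no `λ`-transvections: elements of odd order inverted by `a ∈ A_l` (bb #19126, (0.5), (0.10))

* `One.in_odd` (0.5) : `1 ≠ a ∈ A_l` inverts some `o ≠ 1` of odd order; `One.in_odd_ne` : `a` moves `o l ≠ l`;
  `One.in_odd_swap` : `a o⁻¹` interchanges `l` and `o l`;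
* `One.in_relD` (1.2) : `D_z > I`, `m ∉ Ē_l` ⟹ `D̄_l = Ī_l + (D̄_l ∩ Ī_m)`;
* `One.in_odd_hyp` (0.10) : `D_z > I` ⟹ `o l ∈ Ē_l - D̄_l`, `a (o l) = o l + l`, and `l ∈ Ē_{o l} - D̄_{o l}`.
-/

set_option autoImplicit false
set_option linter.unusedSectionVars false

namespace Cfsg.Agent.Omega.NO3S.TwoOne

open Subgroup Cfsg Cfsg.Agent.ZN Cfsg.Agent.MinSimple.Geo Cfsg.Agent.Omega.CaseL
open Cfsg.Agent.Omega.NO3S.Fit
open Cfsg.Agent.ZN.Block (conj_mem_of_normalizer conj_mem_of_normalizer' le_normalizer_of_forall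
  mem_normalizer_of)
open scoped commutatorElement

universe u

variable {G : Type u} [Group G]

/-- an element of odd order is a power of its square -/
theorem odd_sq {H : Type*} [Group H] {o : H} (ho : Odd (orderOf o)) : ∃ k : ℕ, o = (o * o) ^ k := by
  obtain ⟨j, hj⟩ := ho
  refine ⟨j + 1, ?_⟩
  rw [← pow_two, ← pow_mul]
  have e : 2 * (j + 1) = orderOf o + 1 := by omega
  rw [e, pow_succ, pow_orderOf_eq_one, one_mul]

theorem odd_fix {H X : Type*} [Group H] [MulAction H X] {o : H} (ho : Odd (orderOf o)) {m : X}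
    (hm : (o * o) • m = m) : o • m = m := by
  obtain ⟨k, hk⟩ := odd_sq ho
  have h1 : ∀ k : ℕ, (o * o) ^ k • m = m := by
    intro k
    induction k with
    | zero => rw [pow_zero, one_smul]
    | succ n ih => rw [pow_succ, mul_smul, hm, ih]
  rw [hk]; exact h1 k

namespace One

section grp

variable {T V L : Subgroup G} {z y q : G}

/-- (1.2), group form: a pair with `q ∉ E_z(V)`; `D_z > I`; then `D_z(V) = I_V (D_z(V) ∩ I_L)` -/
theorem rel_mul [Finite G] (h : One T V z) (hN : NT V) (hL : L ∈ lines V z) (hy : y ∈ V) (hy1 : y ≠ 1)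
    (hyz : y ≠ z) (hq : q ∈ L) (hq1 : q ≠ 1) (hqz : q ≠ z) (hd : ∃ d ∈ dd V y, d ∉ ii V) (hqE : q ∉ ee V z)
    {c : G} (hc : c ∈ dd V z) : ∃ i ∈ ii V, ∃ j ∈ ii L, j ∈ dd V z ∧ c = i * j := by
  have hz := h.ln.z_mem
  have hz1 := h.ln.z_ne
  obtain ⟨d, hd, hdI⟩ := hd
  obtain ⟨-, -, T', h'⟩ := h.of_line hL hz1
  have hyE := h.not_mem_ee_symm hN hL hy hy1 hyz hq hq1 hqz hd hdI hqE
  have hyL : y ∈ ws L z := by rw [ws_of_lines hL]; exact h.V_le hz hz1 hy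
  have hqV : q ∈ ws V z := by rw [← ws_of_lines hL]; exact h'.V_le h'.ln.z_mem hz1 hq
  obtain ⟨e, he, ey⟩ := h'.nt_move_ee (hN.of_lines hL) hq hq1 h'.ln.z_mem hz1 (Ne.symm hqz) hyL hyE
  obtain ⟨g, hg, gq⟩ := h.nt_move_ee hN hy hy1 hz hz1 (Ne.symm hyz) hqV hqE
  exact (Spr.of_ee hL hy hy1 hyz hq hq1 hqz he ey hy hy1 hg.1 gq).exists_mul h hc

end grp

variable {T V : Subgroup G} {z : G} {M H : Type u} [AddCommGroup M] [Group H] [DistribMulAction H M]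
  (h : One T V z) (R : MRep V cg z M H) {y : G} (hy : y ∈ V) (hy1 : y ≠ 1) (hyz : y ≠ z)
include h hy hy1 hyz

/-- (1.2) at `v₀` -/
theorem loc_rel [Finite G] (hN : NT V) (hd : ∃ d ∈ dd V y, d ∉ ii V) {x : H} (hx : al0 R y (x • R.pi y) ≠ 1)
    {u : M} (hu : ∀ a ∈ a0 R y, a • u = u) : ∃ i ∈ i0 R, ∃ j, x⁻¹ • j ∈ i0 R ∧ u = i + j := by
  have hz := h.ln.z_mem
  have hz1 := h.ln.z_ne
  obtain ⟨f, hf, rfl⟩ := R.phi_surj x
  obtain ⟨w, hw, rfl⟩ := h.rp_surj R u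
  have hfz : f * z * f⁻¹ = z := conj_eq_of_comm (mem_centralizer_singleton_iff.mp hf)
  have hyW := h.V_le hz hz1 hy
  have hL : cj f V ∈ lines V z := by
    have := mem_lines_cj (g := f) (L := V) (V := V) (x := z) ⟨⟨1, (cj_one V).symm⟩, hz⟩
    rwa [hfz] at this
  have hfy : f * y * f⁻¹ ∈ ws V z := by
    have := conj_mem_ws f hyW
    rwa [hfz] at this
  have hqE : f * y * f⁻¹ ∉ ee V z := by
    intro hE
    apply hx
    rw [h.rp_act R hf hyW]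
    exact (h.al0_one R hy hy1 hyz hfy).mpr hE
  have hw' := (h.loc_D R hy hy1 hyz hN hw).mp hu
  obtain ⟨i, hi, j, hj, -, rfl⟩ := h.rel_mul hN hL hy hy1 hyz (conj_mem_cj hy)
    (fun e => hy1 (conj_eq_one_iff.mp e)) (fun e => hyz (by
      calc y = f⁻¹ * (f * y * f⁻¹) * f := by group
        _ = f⁻¹ * (f * z * f⁻¹) * f := by rw [e, hfz]
        _ = z := by group)) hd hqE hw'
  have hj' := ii_of_cj hj
  have hjz : j ∈ ws V z := by
    have h1 := ii_le hL.2 hz1 hj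
    rwa [ws_of_lines hL] at h1
  refine ⟨R.pi i, (h.mem_i0 R).mpr ⟨i, hi, rfl⟩, R.pi j, ?_, h.rp_mul R (ii_le hz hz1 hi) hjz⟩
  rw [← R.phi_inv hf, h.rp_act R (inv_mem hf) hjz, inv_inv]
  exact (h.mem_i0 R).mpr ⟨_, hj', rfl⟩

/-- (1.2) -/
theorem in_relD [Finite G] (hN : NT V) (hd : ∃ d ∈ dd V y, d ∉ ii V) {l m : M} (hl : l ∈ LL R y) (hm : m ∈ LL R y)
    (hE : AL R y l m ≠ 1) {u : M} (hu : ∀ a ∈ AA R y l, a • u = u) :
    ∃ i ∈ II R y l, ∃ j ∈ II R y m, u = i + j := by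
  obtain ⟨g, hg⟩ := hl
  obtain ⟨k, hk⟩ := hm
  have hk' : k • R.pi y = m := hk
  have h1 : al0 R y ((g⁻¹ * k) • R.pi y) ≠ 1 := by
    intro e
    apply hE
    rw [h.AL_eq R hy hy1 hyz hg, ← hk', smul_smul, e]
    group
  obtain ⟨i, hi, j, hj, e⟩ := h.loc_rel R hy hy1 hyz hN hd h1 (u := g⁻¹ • u) (by
    intro a ha
    have h2 := hu _ (h.exists_a0 R hy hy1 hyz hg ha)
    have e1 : a • g⁻¹ • u = g⁻¹ • ((g * a * g⁻¹) • u) := by
      rw [smul_smul, smul_smul]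
      congr 1
      group
    rw [e1, h2])
  refine ⟨g • i, ?_, g • j, ?_, ?_⟩
  · rw [h.mem_II R hy hy1 hyz hg, inv_smul_smul]; exact hi
  · rw [h.mem_II R hy hy1 hyz hk, smul_smul]
    have e1 : k⁻¹ * g = (g⁻¹ * k)⁻¹ := by group
    rw [e1]; exact hj
  · rw [← smul_add, ← e, smul_inv_smul]

/-- `D̄_l > Ī_l` -/
theorem in_DD [Finite G] (hN : NT V) (hd : ∃ d ∈ dd V y, d ∉ ii V) {l : M} (hl : l ∈ LL R y) :
    ∃ u : M, (∀ a ∈ AA R y l, a • u = u) ∧ u ∉ II R y l := by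
  have hz := h.ln.z_mem
  have hz1 := h.ln.z_ne
  obtain ⟨d, hd, hdI⟩ := hd
  -- `D_z > I`
  obtain ⟨t, ht, hty⟩ := h.xl_trans hy hy1 hz hz1
  have htn := h.xl_le_normalizer ht
  have hd1 : t * d * t⁻¹ ∈ dd V z := by
    have := conj_mem_dd htn hd
    rwa [hty] at this
  have hd2 : t * d * t⁻¹ ∉ ii V := fun hi => hdI (by
    have := conj_mem_of_normalizer' (normalizer_le_normalizer_ii V) htn hi
    have e1 : t⁻¹ * (t * d * t⁻¹) * t = d := by group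
    rwa [e1] at this)
  set c := t * d * t⁻¹ with hc
  obtain ⟨g, hg⟩ := hl
  refine ⟨g • R.pi c, fun a ha => ?_, fun hi => ?_⟩
  · rw [h.mem_AA R hy hy1 hyz hg] at ha
    have h1 := (h.loc_D R hy hy1 hyz hN hd1.1).mpr hd1 _ ha
    have e1 : a • g • R.pi c = g • ((g⁻¹ * a * g) • R.pi c) := by
      rw [smul_smul, smul_smul]
      congr 1
      group
    rw [e1, h1]
  · rw [h.mem_II R hy hy1 hyz hg, inv_smul_smul] at hi
    obtain ⟨u, hu, e⟩ := (h.mem_i0 R).mp hi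
    rcases (h.rp_eq R (ii_le hz hz1 hu) hd1.1).mp e with e1 | e1
    · exact hd2 (by rw [← e1]; exact hu)
    · apply hd2
      have h2 := mul_mem (inv_mem (h.V_le_ii hz)) hu
      rwa [e1, inv_mul_cancel_left] at h2

/-- an `o ≠ 1` of odd order inverted by `a ∈ A_l` moves `l` -/
theorem in_odd_ne [Finite G] {l : M} (hl : l ∈ LL R y) {a o : H} (ha : a ∈ AA R y l) (ho1 : o ≠ 1)
    (ho : Odd (orderOf o)) (hao : a * o * a⁻¹ = o⁻¹) : o • l ≠ l := by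
  intro he
  have h1 : o * a⁻¹ * o⁻¹ ∈ AA R y l := by
    have := h.in_A_conj R hy hy1 hyz hl (x := o) (inv_mem ha)
    rwa [he] at this
  have h2 : a * (o * a⁻¹ * o⁻¹) = o⁻¹ * o⁻¹ := by
    calc a * (o * a⁻¹ * o⁻¹) = (a * o * a⁻¹) * o⁻¹ := by group
      _ = o⁻¹ * o⁻¹ := by rw [hao]
  have h3 := h.in_sq R hy hy1 hyz hl (mul_mem ha h1)
  rw [h2] at h3
  apply ho1
  have h4 : (o * o) * (o * o) = 1 := by
    have := congrArg (fun t => t⁻¹) h3
    simpa only [mul_inv_rev, inv_inv, inv_one] using this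
  have h5 : o ^ 4 = 1 := by
    calc o ^ 4 = (o * o) * (o * o) := by
          rw [show (4 : ℕ) = 2 * 2 from rfl, pow_mul, pow_two, pow_two]
      _ = 1 := h4
  have h6 : orderOf o ∣ 4 := orderOf_dvd_of_pow_eq_one h5
  have h7 : Nat.Coprime (orderOf o) 4 := by
    have h8 : Nat.Coprime (orderOf o) 2 := Nat.Coprime.symm (Nat.coprime_two_left.mpr ho)
    exact Nat.Coprime.pow_right 2 h8
  have h8 : orderOf o = 1 := Nat.Coprime.eq_one_of_dvd h7 h6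
  exact orderOf_eq_one_iff.mp h8

/-- `a o⁻¹` interchanges `l` and `o l` -/
theorem in_odd_swap [Finite G] {l : M} (hl : l ∈ LL R y) {a o : H} (ha : a ∈ AA R y l)
    (hao : a * o * a⁻¹ = o⁻¹) : (a * o⁻¹) • l = o • l ∧ (a * o⁻¹) • (o • l) = l := by
  have hal : a • l = l := h.in_fix R hy hy1 hyz hl ha (h.in_self R hy hy1 hyz hl)
  have e1 : a * o⁻¹ = o * a := by
    have h1 : a * o = o⁻¹ * a := by rw [← hao]; group
    calc a * o⁻¹ = o * (o⁻¹ * a) * o⁻¹ := by group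
      _ = o * (a * o) * o⁻¹ := by rw [h1]
      _ = o * a := by group
  refine ⟨?_, ?_⟩
  · rw [e1, mul_smul, hal]
  · rw [mul_smul, inv_smul_smul, hal]

/-- `a` moves `o l` -/
theorem in_odd_move [Finite G] {l : M} (hl : l ∈ LL R y) {a o : H} (ha : a ∈ AA R y l) (ho1 : o ≠ 1)
    (ho : Odd (orderOf o)) (hao : a * o * a⁻¹ = o⁻¹) : a • (o • l) ≠ o • l := by
  intro he
  apply h.in_odd_ne R hy hy1 hyz hl ha ho1 ho hao
  have hal : a • l = l := h.in_fix R hy hy1 hyz hl ha (h.in_self R hy hy1 hyz hl)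
  have h1 : a * o = o⁻¹ * a := by rw [← hao]; group
  refine odd_fix ho ?_
  have h2 : o⁻¹ • l = o • l := by
    calc o⁻¹ • l = (o⁻¹ * a) • l := by rw [mul_smul, hal]
      _ = (a * o) • l := by rw [h1]
      _ = o • l := by rw [mul_smul, he]
  calc (o * o) • l = o • (o • l) := mul_smul _ _ _
    _ = o • o⁻¹ • l := by rw [h2]
    _ = l := smul_inv_smul o l

/-- **(0.5)** -/
theorem in_odd [Finite G] {l : M} (_ : l ∈ LL R y) {a : H} (ha2 : a * a = 1) (ha1 : a ≠ 1) :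
    ∃ o : H, o ≠ 1 ∧ Odd (orderOf o) ∧ a * o * a⁻¹ = o⁻¹ := by
  have : Finite H := Mixed.finite_H R
  refine Involutions.BaerSuzuki.exists_odd_inverted a ha2 fun hP => ha1 ?_
  have h1 := Mixed.o2_eq_bot h R (Subgroup.normalClosure_normal (s := {a})) hP
  have h2 : a ∈ Subgroup.normalClosure {a} := Subgroup.subset_normalClosure (Set.mem_singleton a)
  rw [h1] at h2
  exact Subgroup.mem_bot.1 h2

/-- (0.10), first half: `o l ∈ Ē_l` -/
theorem in_odd_E [Finite G] (hN : NT V) (hd : ∃ d ∈ dd V y, d ∉ ii V) {l : M} (hl : l ∈ LL R y) {a o : H}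
    (ha : a ∈ AA R y l) (ho : Odd (orderOf o)) (hao : a * o * a⁻¹ = o⁻¹) : AL R y l (o • l) = 1 := by
  by_contra hE
  obtain ⟨u, hu, huI⟩ := h.in_DD R hy hy1 hyz hN hd hl
  obtain ⟨i, hi, j, hj, rfl⟩ := h.in_relD R hy hy1 hyz hN hd hl (smul_mem_LL R y o hl) hE hu
  apply huI
  refine add_mem hi ?_
  -- `j` is fixed by `A_l` and `A_{o l}`
  have h1 : a • j = j := by
    have h2 := hu a ha
    rw [smul_add, h.in_fix R hy hy1 hyz hl ha hi] at h2
    exact add_left_cancel h2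
  have h2 : (o * a * o⁻¹) • j = j :=
    h.in_fix R hy hy1 hyz (smul_mem_LL R y o hl) (h.in_A_conj R hy hy1 hyz hl (x := o) ha) hj
  have h3 : o * a * o⁻¹ = (o * o) * a := by
    have h4 : a * o = o⁻¹ * a := by rw [← hao]; group
    calc o * a * o⁻¹ = o * (o * (o⁻¹ * a)) * o⁻¹ := by group
      _ = o * (o * (a * o)) * o⁻¹ := by rw [h4]
      _ = (o * o) * a := by group
  rw [h3, mul_smul, h1] at h2
  have h4 := odd_fix ho h2
  have h5 := h.in_I_conj R hy hy1 hyz (smul_mem_LL R y o hl) o⁻¹ hj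
  rw [inv_smul_smul] at h5
  have h6 : o⁻¹ • j = j := by
    calc o⁻¹ • j = o⁻¹ • o • j := by rw [h4]
      _ = j := inv_smul_smul o j
  rwa [h6] at h5

/-- **(0.10)** : `l` and `o l` are a hyperbolic pair -/
theorem in_odd_hyp [Finite G] (hN : NT V) (hd : ∃ d ∈ dd V y, d ∉ ii V) {l : M} (hl : l ∈ LL R y) {a o : H}
    (ha : a ∈ AA R y l) (ho1 : o ≠ 1) (ho : Odd (orderOf o)) (hao : a * o * a⁻¹ = o⁻¹) :
    AL R y l (o • l) = 1 ∧ a • (o • l) = o • l + l ∧ AL R y (o • l) l = 1 ∧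
      ∃ b ∈ AA R y (o • l), b • l = l + o • l := by
  have h1 := h.in_odd_E R hy hy1 hyz hN hd hl ha ho hao
  have h2 : a • (o • l) = o • l + l :=
    ((h.in_al_ker R hy hy1 hyz hN hl (o • l)).mp h1 a ha).resolve_left
      (h.in_odd_move R hy hy1 hyz hl ha ho1 ho hao)
  obtain ⟨s1, s2⟩ := h.in_odd_swap R hy hy1 hyz hl ha hao
  set x := a * o⁻¹ with hx
  refine ⟨h1, h2, ?_, x * a * x⁻¹, ?_, ?_⟩
  · have h3 := h.in_al_conj R hy hy1 hyz hl x (o • l)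
    rw [s1, s2, h1] at h3
    rw [h3]; group
  · have := h.in_A_conj R hy hy1 hyz hl (x := x) ha
    rwa [s1] at this
  · have h3 : x⁻¹ • l = o • l := by
      have h4 := inv_smul_smul x (o • l)
      rwa [s2] at h4
    rw [mul_smul, mul_smul, h3, h2, smul_add, s2, s1]

/-- (0.10), existence form: every `1 ≠ a ∈ A_l` moves some `v` with `v ∈ Ē_l - D̄_l`, `l ∈ Ē_v - D̄_v` -/
theorem in_exists_hyp [Finite G] (hN : NT V) (hd : ∃ d ∈ dd V y, d ∉ ii V) {l : M} (hl : l ∈ LL R y) {a : H}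
    (ha : a ∈ AA R y l) (ha1 : a ≠ 1) : ∃ v ∈ LL R y, AL R y l v = 1 ∧ a • v = v + l ∧ AL R y v l = 1 ∧
      ∃ b ∈ AA R y v, b • l = l + v := by
  obtain ⟨o, ho1, ho, hao⟩ := h.in_odd R hy hy1 hyz hl (h.in_sq R hy hy1 hyz hl ha) ha1
  exact ⟨o • l, smul_mem_LL R y o hl, h.in_odd_hyp R hy hy1 hyz hN hd hl ha ho1 ho hao⟩

end One

end Cfsg.Agent.Omega.NO3S.TwoOne
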