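import Cfsg.Agent.Omega.NO3S.TwoOne.Inst
import Cfsg.Agent.Omega.NO3S.TwoOne.SymRel

/-!
# NO-3S, `q = 2`, `n = 1`, no `λ`-transvections: planes, in the language of `Inst.lean` (bb #19126, (0.3))

`l, m ∈ LL R y`, `m ∈ II R y l`.

* `One.in_pl_sum`, `One.in_pl_symm`, `One.in_pl_swap` : `m ≠ l` ⟹ `m + l ∈ LL`; `l ∈ II m`; some `x` interchanges `l`, `m`;
* `One.in_pl_iso` : `AL l w₁ • w₂ = w₂` for `w₁, w₂ ∈ II m`, `m ≠ l`;
* `RR R y l` : the group `[M, A_l]`; `One.in_R_le`, `One.in_R_conj`, `One.in_pl_R`.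
-/

set_option autoImplicit false
set_option linter.unusedSectionVars false

namespace Cfsg.Agent.Omega.NO3S.TwoOne

open Subgroup Cfsg Cfsg.Agent.ZN Cfsg.Agent.MinSimple.Geo Cfsg.Agent.Omega.CaseL
open Cfsg.Agent.Omega.NO3S.Fit
open Cfsg.Agent.ZN.Block (conj_mem_of_normalizer conj_mem_of_normalizer' le_normalizer_of_forall
  mem_normalizer_of)
open scoped commutatorElement

universe u

variable {G : Type u} [Group G]

/-- `[M, A_l]` -/
def RR {M H : Type u} [AddCommGroup M] [Group H] [DistribMulAction H M] {V : Subgroup G} {z : G}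
    (R : MRep V cg z M H) (y : G) (l : M) : AddSubgroup M :=
  AddSubgroup.closure {u | ∃ a ∈ AA R y l, ∃ m : M, a • m + m = u}

theorem ii_of_cj {V : Subgroup G} {g u : G} (hu : u ∈ ii (cj g V)) : g⁻¹ * u * g ∈ ii V := by
  intro p hp hp1
  have h3 := hu _ (conj_mem_cj (g := g) hp) (fun e => hp1 (conj_eq_one_iff.mp e))
  rw [ws_cj] at h3
  have h4 := conj_mem_ws g⁻¹ h3
  have e1 : g⁻¹ * u * g⁻¹⁻¹ = g⁻¹ * u * g := by group
  have e2 : g⁻¹ * (g * p * g⁻¹) * g⁻¹⁻¹ = p := by group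
  rwa [e1, e2] at h4

namespace One

section grp

variable {T V : Subgroup G} {z : G}

/-- (F2) with an element of `X_V` -/
theorem ftwo_xl [Finite G] (h : One T V z) {u : G} (hu : u ∈ ii V) (huV : u ∉ V) {p q : G} (hp : p ∈ V)
    (hp1 : p ≠ 1) (hq : q ∈ V) (hq1 : q ≠ 1) : ∃ g ∈ xl V, g * u = u * g ∧ g * p * g⁻¹ = q := by
  by_cases hpq : p = q
  · subst hpq
    exact ⟨1, one_mem _, by simp, by simp⟩
  have hw : q * p ∈ V := mul_mem hq hp
  have hw1 : q * p ≠ 1 := h.mul_ne_one hp (Ne.symm hpq)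
  have hpw : p ≠ q * p := fun e => hq1 (by simpa using e.symm)
  obtain ⟨t, ht, ht1⟩ := h.exists_mover hw hw1
  have e1 := h.move hw hw1 hp hp1 hpw ht ht1
  have e2 : q * p * p = q := by rw [mul_assoc, h.ln.sq p hp, mul_one]
  rw [e2] at e1
  have htn := kq_le_xl hw hw1 ht
  rcases h.kq_cases hw ht (hu _ hw hw1) with e3 | e3
  · exact ⟨t, htn, comm_of_conj_eq e3, e1⟩
  · obtain ⟨k, hk, hkV, hku⟩ := h.fu hu huV hw hw1
    refine ⟨k * t, mul_mem (kq_le_xl hw hw1 hk) htn, comm_of_conj_eq ?_, ?_⟩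
    · have hkw : k * (q * p) * k⁻¹ = q * p := conj_eq_of_comm (h.V_comm hw hkV).symm
      calc k * t * u * (k * t)⁻¹ = k * (t * u * t⁻¹) * k⁻¹ := by group
        _ = (k * (q * p) * k⁻¹) * (k * u * k⁻¹) := by rw [e3]; group
        _ = (q * p) * (q * p) * u := by rw [hkw, hku]; group
        _ = u := by rw [h.ln.sq _ hw, one_mul]
    · calc k * t * p * (k * t)⁻¹ = k * (t * p * t⁻¹) * k⁻¹ := by group
        _ = k * q * k⁻¹ := by rw [e1]
        _ = q := conj_eq_of_comm (h.V_comm hq hkV).symm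

end grp

variable {T V : Subgroup G} {z : G} {M H : Type u} [AddCommGroup M] [Group H] [DistribMulAction H M]
  (h : One T V z) (R : MRep V cg z M H) {y : G} (hy : y ∈ V) (hy1 : y ≠ 1) (hyz : y ≠ z)
include h hy hy1 hyz

/-- the point over a line vector of `Ī` is in `I` -/
theorem loc_pt [Finite G] {f : G} (hf : f ∈ centralizer ({z} : Set G)) (hx : R.phi f • R.pi y ∈ i0 R) :
    cj f V ∈ lines V z ∧ f * y * f⁻¹ ∈ cj f V ∧ f * y * f⁻¹ ≠ 1 ∧ f * y * f⁻¹ ≠ z ∧ f * y * f⁻¹ ∈ ii V := by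
  have hz := h.ln.z_mem
  have hz1 := h.ln.z_ne
  obtain ⟨u, hu, e⟩ := (h.mem_i0 R).mp hx
  have hfz : f * z * f⁻¹ = z := conj_eq_of_comm (mem_centralizer_singleton_iff.mp hf)
  have hyW := h.V_le hz hz1 hy
  have hL : cj f V ∈ lines V z := by
    have := mem_lines_cj (g := f) (L := V) (V := V) (x := z) ⟨⟨1, (cj_one V).symm⟩, hz⟩
    rwa [hfz] at this
  have hfy : f * y * f⁻¹ ∈ ws V z := by
    have := conj_mem_ws f hyW
    rwa [hfz] at this
  refine ⟨hL, conj_mem_cj hy, fun e => hy1 (conj_eq_one_iff.mp e), fun e => hyz ?_, ?_⟩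
  · calc y = f⁻¹ * (f * y * f⁻¹) * f := by group
      _ = f⁻¹ * (f * z * f⁻¹) * f := by rw [e, hfz]
      _ = z := by group
  · rw [h.rp_act R hf hyW] at e
    rcases (h.rp_eq R (ii_le hz hz1 hu) hfy).mp e with e1 | e1
    · rw [← e1]; exact hu
    · have h2 := mul_mem (inv_mem (h.V_le_ii hz)) hu
      rwa [e1, inv_mul_cancel_left] at h2

theorem loc_symm [Finite G] {x : H} (hx : x • R.pi y ∈ i0 R) : x⁻¹ • R.pi y ∈ i0 R := by
  have hz := h.ln.z_mem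
  have hz1 := h.ln.z_ne
  obtain ⟨f, hf, rfl⟩ := R.phi_surj x
  obtain ⟨hL, hq, hq1, hqz, hqI⟩ := h.loc_pt R hy hy1 hyz hf hx
  have h1 := ii_of_cj (h.ii_symm hL hy hy1 hq hq1 hqz hqI)
  rw [← R.phi_inv hf, h.rp_act R (inv_mem hf) (h.V_le hz hz1 hy), inv_inv]
  exact (h.mem_i0 R).mpr ⟨_, h1, rfl⟩

/-- isotropy at `v₀` -/
theorem loc_iso [Finite G] {x : H} (hx : x • R.pi y ∈ i0 R) (hne : x • R.pi y ≠ R.pi y) {w₁ w₂ : M}
    (h₁ : x⁻¹ • w₁ ∈ i0 R) (h₂ : x⁻¹ • w₂ ∈ i0 R) : al0 R y w₁ • w₂ = w₂ := by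
  have hz := h.ln.z_mem
  have hz1 := h.ln.z_ne
  obtain ⟨f, hf, rfl⟩ := R.phi_surj x
  have hfz : f * z * f⁻¹ = z := conj_eq_of_comm (mem_centralizer_singleton_iff.mp hf)
  obtain ⟨hL, hq, hq1, hqz, hqI⟩ := h.loc_pt R hy hy1 hyz hf hx
  set u := f * y * f⁻¹ with hu
  have hyW := h.V_le hz hz1 hy
  -- `u ∉ V`
  have huV : u ∉ V := by
    intro huV
    apply hne
    have h1 := h.line_eq hL hq hq1 hqz huV
    exact (R.smul_v0_iff h.fam hy hy1 hyz hf).mpr (mem_normalizer_iff_cj.mpr h1)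
  -- the elements over `w`
  have key : ∀ w : M, (R.phi f)⁻¹ • w ∈ i0 R → ∃ c ∈ ws V z, c ∈ ws V u ∧ R.pi c = w := by
    intro w hw
    obtain ⟨v, hv, e⟩ := (h.mem_i0 R).mp hw
    refine ⟨f * v * f⁻¹, ?_, conj_mem_ws f (hv y hy hy1), ?_⟩
    · have := conj_mem_ws f (hv z hz hz1)
      rwa [hfz] at this
    · rw [← h.rp_act R hf (hv z hz hz1), e, smul_inv_smul]
  obtain ⟨c₁, hc₁z, hc₁u, rfl⟩ := key w₁ h₁
  obtain ⟨c₂, hc₂z, hc₂u, rfl⟩ := key w₂ h₂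
  obtain ⟨g, hg, hgu, hgz⟩ := h.ftwo_xl hqI huV hz hz1 hy hy1
  have hb : g * c₁ * g⁻¹ ∈ ws V y := by
    have := conj_mem_ws g hc₁z
    rwa [hgz] at this
  have hbu : g * c₁ * g⁻¹ ∈ ws V u := by
    have := conj_mem_ws g hc₁u
    rwa [conj_eq_of_comm hgu] at this
  have ht : Tw V z c₁ y (g * c₁ * g⁻¹) := by
    have := h.tw_conj hg z c₁
    rwa [hgz] at this
  obtain ⟨-, -, T', h'⟩ := h.of_line hL hz1
  have hcomm : (g * c₁ * g⁻¹) * c₂ = c₂ * (g * c₁ * g⁻¹) := by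
    refine h'.comm hq hq1 _ ?_ _ ?_
    · rw [ws_of_lines hL]; exact hbu
    · rw [ws_of_lines hL]; exact hc₂u
  rw [h.al0_eq R hy hy1 hyz hc₁z hb ht, h.rp_act R (h.ws_le_cz hy hy1 hb) hc₂z, conj_eq_of_comm hcomm]

/-! ### planes at every line vector -/

theorem in_pl_symm [Finite G] {l m : M} (hl : l ∈ LL R y) (hm : m ∈ LL R y) (hml : m ∈ II R y l) :
    l ∈ II R y m := by
  obtain ⟨g, hg⟩ := hl
  obtain ⟨k, hk⟩ := hm
  rw [h.mem_II R hy hy1 hyz hg, ← hk] at hml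
  change g⁻¹ • k • R.pi y ∈ i0 R at hml
  rw [smul_smul] at hml
  have := h.loc_symm R hy hy1 hyz hml
  rw [h.mem_II R hy hy1 hyz hk, ← hg]
  change k⁻¹ • g • R.pi y ∈ i0 R
  rw [smul_smul]
  rwa [mul_inv_rev, inv_inv] at this

theorem in_pl_iff [Finite G] {l m : M} (hl : l ∈ LL R y) (hm : m ∈ LL R y) : m ∈ II R y l ↔ l ∈ II R y m :=
  ⟨h.in_pl_symm R hy hy1 hyz hl hm, h.in_pl_symm R hy hy1 hyz hm hl⟩

theorem in_pl_sum [Finite G] {l m : M} (hl : l ∈ LL R y) (hm : m ∈ LL R y) (hml : m ∈ II R y l) (hne : m ≠ l) :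
    m + l ∈ LL R y := by
  obtain ⟨c, -, h1, -⟩ := h.in_Kt R hy hy1 hyz hl hml (h.in_ne R hy hy1 hyz hm) hne
  rw [← h1]
  exact smul_mem_LL R y c hm

theorem in_pl_swap [Finite G] {l m : M} (hl : l ∈ LL R y) (hm : m ∈ LL R y) (hml : m ∈ II R y l) :
    ∃ x : H, x • l = m ∧ x • m = l := by
  have two := h.rp_two R
  by_cases hne : m = l
  · exact ⟨1, by rw [one_smul, hne], by rw [one_smul, hne]⟩
  obtain ⟨c, c1, c2, -⟩ := h.in_Kt R hy hy1 hyz hl hml (h.in_ne R hy hy1 hyz hm) hne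
  obtain ⟨d, d1, d2, -⟩ := h.in_Kt R hy hy1 hyz hm (h.in_pl_symm R hy hy1 hyz hl hm hml)
    (h.in_ne R hy hy1 hyz hl) (Ne.symm hne)
  refine ⟨c * d * c, ?_, ?_⟩
  · rw [mul_smul, mul_smul, c1, d2, smul_add, c1, c2]
    calc l + (m + l) = m + (l + l) := by abel
      _ = m := by rw [two, add_zero]
  · rw [mul_smul, mul_smul, c2, smul_add, d1, d2]
    have e : m + (l + m) = l := by
      calc m + (l + m) = l + (m + m) := by abel
        _ = l := by rw [two, add_zero]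
    rw [e, c1]

/-- isotropy -/
theorem in_pl_iso [Finite G] {l m : M} (hl : l ∈ LL R y) (hm : m ∈ LL R y) (hml : m ∈ II R y l) (hne : m ≠ l)
    {w₁ w₂ : M} (h₁ : w₁ ∈ II R y m) (h₂ : w₂ ∈ II R y m) : AL R y l w₁ • w₂ = w₂ := by
  obtain ⟨g, hg⟩ := hl
  obtain ⟨k, hk⟩ := hm
  have hk' : k • R.pi y = m := hk
  have hg' : g • R.pi y = l := hg
  rw [h.mem_II R hy hy1 hyz hk] at h₁ h₂
  rw [h.mem_II R hy hy1 hyz hg, ← hk', smul_smul] at hml
  have h3 := h.loc_iso R hy hy1 hyz (x := g⁻¹ * k) (w₁ := g⁻¹ • w₁) (w₂ := g⁻¹ • w₂) hml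
    (fun e => hne (by
      have := congrArg (fun u => g • u) e
      change g • ((g⁻¹ * k) • R.pi y) = g • R.pi y at this
      rw [smul_smul, mul_inv_cancel_left] at this
      rw [← hk', ← hg']; exact this))
    (by rw [smul_smul]; have e : (g⁻¹ * k)⁻¹ * g⁻¹ = k⁻¹ := by group
        rw [e]; exact h₁)
    (by rw [smul_smul]; have e : (g⁻¹ * k)⁻¹ * g⁻¹ = k⁻¹ := by group
        rw [e]; exact h₂)
  rw [h.AL_eq R hy hy1 hyz hg, mul_smul, mul_smul, h3, smul_inv_smul]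

/-! ### `[M, A_l]` -/

theorem in_R_mem [Finite G] {l : M} {a : H} (ha : a ∈ AA R y l) (m : M) : a • m + m ∈ RR R y l :=
  AddSubgroup.subset_closure ⟨a, ha, m, rfl⟩

theorem in_R_le [Finite G] {l : M} (hl : l ∈ LL R y) : RR R y l ≤ II R y l := by
  refine (AddSubgroup.closure_le _).mpr ?_
  rintro _ ⟨a, ha, m, rfl⟩
  exact h.in_comm R hy hy1 hyz hl ha m

theorem in_R_conj [Finite G] {l : M} (hl : l ∈ LL R y) (x : H) {u : M} (hu : u ∈ RR R y l) : x • u ∈ RR R y (x • l) := by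
  refine AddSubgroup.closure_induction (p := fun m _ => x • m ∈ RR R y (x • l)) ?_ ?_ ?_ ?_ hu
  · rintro _ ⟨a, ha, m, rfl⟩
    have h1 := h.in_R_mem R hy hy1 hyz (h.in_A_conj R hy hy1 hyz hl (x := x) ha) (x • m)
    have e : (x * a * x⁻¹) • x • m + x • m = x • (a • m + m) := by
      rw [smul_add, smul_smul, smul_smul]
      congr 2
      group
    rwa [e] at h1
  · rw [smul_zero]; exact zero_mem _
  · intro a b _ _ ha hb
    rw [smul_add]; exact add_mem ha hb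
  · intro a _ ha
    rw [smul_neg]; exact neg_mem ha

theorem in_pl_R_aux [Finite G] {l m : M} (hl : l ∈ LL R y) (hm : m ∈ LL R y) (hml : m ∈ RR R y l) :
    l ∈ RR R y m := by
  obtain ⟨x, h1, h2⟩ := h.in_pl_swap R hy hy1 hyz hl hm (h.in_R_le R hy hy1 hyz hl hml)
  have := h.in_R_conj R hy hy1 hyz hl x hml
  rwa [h1, h2] at this

theorem in_pl_R [Finite G] {l m : M} (hl : l ∈ LL R y) (hm : m ∈ LL R y) : m ∈ RR R y l ↔ l ∈ RR R y m :=
  ⟨h.in_pl_R_aux R hy hy1 hyz hl hm, h.in_pl_R_aux R hy hy1 hyz hm hl⟩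

end One

end Cfsg.Agent.Omega.NO3S.TwoOne
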